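import Groth.Prelude.Def_ModSite
import Mathlib.Algebra.Category.ModuleCat.Sheaf.PullbackFree

/-!
# The pullback of the structure sheaf along a morphism of ringed sites
-/

universe u

set_option backward.isDefEq.respectTransparency false
set_option backward.isDefEq.respectTransparency.types false

open CategoryTheory CategoryTheory.Limits Opposite

namespace Groth.Agent.ModPull

variable {C D : Type u} [SmallCategory C] [SmallCategory D] {J : GrothendieckTopology C}
  {K : GrothendieckTopology D}

/-- The sheaf with one section everywhere. -/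
def oneSheaf (J : GrothendieckTopology C) : Sheaf J (Type u) :=
  ⟨(Functor.const Cᵒᵖ).obj PUnit.{u + 1},
    (isSheaf_iff_isSheaf_of_type _ _).2 fun _ _ _ _ _ => ⟨PUnit.unit, fun _ _ _ => rfl, fun _ _ => rfl⟩⟩

/-- It is terminal. -/
def isTerminalOneSheaf : IsTerminal (oneSheaf J) :=
  IsTerminal.ofUniqueHom (fun F => ⟨{ app := fun _ => TypeCat.ofHom fun _ => PUnit.unit }⟩)
    fun _ _ => Sheaf.hom_ext (NatTrans.ext (funext fun _ => rfl))

/-- Sections of a sheaf and sections of its direct image along an exact continuous functor. -/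
theorem bijective_sectionsRestrict (F : D ⥤ C) [F.IsContinuous K J]
    [PreservesFiniteLimits (F.sheafPullback (Type u) K J)] (P : Sheaf J (Type u)) :
    Function.Bijective (fun s : P.obj.sections =>
      (⟨fun d => s.1 (op (F.obj d.unop)), fun g => s.2 (F.map g.unop).op⟩ : (F.op ⋙ P.obj).sections)) := by
  let L := F.sheafPullback (Type u) K J
  let R := F.sheafPushforwardContinuous (Type u) K J
  let adj : L ⊣ R := F.sheafAdjunctionContinuous (Type u) K J
  have hT : IsTerminal (L.obj (oneSheaf K)) := isTerminalOneSheaf.isTerminalObj L _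
  let t : oneSheaf J ≅ L.obj (oneSheaf K) := isTerminalOneSheaf.uniqueUpToIso hT
  let t₀ : oneSheaf K ⟶ R.obj (oneSheaf J) := adj.homEquiv _ _ t.inv
  have hΦ : Function.Bijective fun ψ : oneSheaf J ⟶ P => t₀ ≫ R.map ψ := by
    have h : (fun ψ : oneSheaf J ⟶ P => t₀ ≫ R.map ψ) =
        (adj.homEquiv (oneSheaf K) P) ∘ (Iso.homCongr t (Iso.refl P)) := funext fun ψ => by
      simp [t₀, ← Adjunction.homEquiv_naturality_right]
    rw [h]
    exact (adj.homEquiv _ _).bijective.comp (Iso.homCongr t (Iso.refl P)).bijective
  let sec : P.obj.sections → (oneSheaf J ⟶ P) := fun s =>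
    ⟨{ app := fun c => TypeCat.ofHom fun _ => s.1 c
       naturality := fun c c' g => by ext x; exact (s.2 g).symm }⟩
  constructor
  · intro s s' h
    have h' : sec s = sec s' := hΦ.injective (Sheaf.hom_ext (NatTrans.ext (funext fun d => by
      ext x; exact congr($(h).1 d))))
    exact Subtype.ext (funext fun c => congr(($(h').hom.app c) PUnit.unit))
  · intro s
    obtain ⟨ψ, hψ⟩ := hΦ.surjective ⟨{ app := fun d => TypeCat.ofHom fun _ => s.1 d
                                       naturality := fun d d' g => by ext x; exact (s.2 g).symm }⟩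
    refine ⟨⟨fun c => ψ.hom.app c PUnit.unit, fun g => (NatTrans.naturality_apply ψ.hom g PUnit.unit).symm⟩,
      Subtype.ext (funext fun d => ?_)⟩
    exact congr(($(hψ).hom.app d) PUnit.unit)

variable {O_C : Sheaf J CommRingCat.{u}} {O_D : Sheaf K CommRingCat.{u}} (f : ModSite.RMor O_C O_D)

theorem bijective_pushforwardSections (M : ModSite.Mod O_C) :
    Function.Bijective (SheafOfModules.pushforwardSections f.sharpR (M := M)) :=
  bijective_sectionsRestrict (J := J) (K := K) f.fn
    ((sheafCompose J (CategoryTheory.forget AddCommGrpCat.{u})).obj ((SheafOfModules.toSheaf _).obj M))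

/-- The structure sheaf pulls back to the structure sheaf. -/
theorem isIso_pullbackObjUnitToUnit : IsIso (SheafOfModules.pullbackObjUnitToUnit f.sharpR) := by
  rw [isIso_iff_coyoneda_map_bijective]
  intro M
  rw [← ((SheafOfModules.pullbackPushforwardAdjunction.{u} f.sharpR).homEquiv _ _).bijective.of_comp_iff',
    ← (SheafOfModules.unitHomEquiv _).bijective.of_comp_iff']
  convert! (bijective_pushforwardSections f M).comp (SheafOfModules.unitHomEquiv _).bijective
  ext g : 1
  dsimp
  rw [SheafOfModules.pushforwardSections_unitHomEquiv, EmbeddingLike.apply_eq_iff_eq,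
    Adjunction.homEquiv_naturality_right,
    SheafOfModules.pullbackPushforwardAdjunction_homEquiv_pullbackObjUnitToUnit]

/-- Free modules pull back to free modules. -/
noncomputable def pullFreeModIso (ι : Type u) :
    f.pull.obj (SheafOfModules.free ι) ≅ SheafOfModules.free ι :=
  haveI := isIso_pullbackObjUnitToUnit f
  (asIso (sigmaComparison f.pull fun _ : ι => SheafOfModules.unit (ModSite.ringSh O_D))).symm ≪≫
    Sigma.mapIso (fun _ => asIso (SheafOfModules.pullbackObjUnitToUnit f.sharpR))

end Groth.Agent.ModPull
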